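import Cfsg.Agent.Mrg.Omega.NOThreeL.RRed.WLF.Src
import Cfsg.Agent.Mrg.Omega.NOThreeL.RRed.InstLW
import Cfsg.Agent.Mrg.Omega.NOThreeL.RRed.Nat1Def

section


/-!
# NO-3L, box R, row 8 of `WideTree`: the data `NatF` of the instance of 853's frame `LFr` (helper916)

`Wide S`, `MvAct S`, two classes `CM S W`, `Src S W l`:

* `exists_nat` : one active `P` per class, with coordinates;
* `norm_l` : an inactive `R ∈ P*(S)` normalises both lines; `norm_l'` : `N_G(S)` permutes the lines;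
* `gal` : an `R ∈ P*(S)` which normalises the lines and fixes some `z ∈ Z_i#` centralises `Z_i`;
* **`natF`** : `InstL.NatF S W l`.
-/

set_option autoImplicit false
set_option linter.unusedSectionVars false

namespace Cfsg.Agent.Omega.NOThreeL.RRed.WLF

open Subgroup Cfsg Cfsg.Agent.ZN Cfsg.Agent.Omega.MinPar Cfsg.Agent.Omega.Frame Cfsg.Agent.Omega.FrameNOFF
open Cfsg.Agent.Omega.FrameFF
open Cfsg.Agent.Omega.NOThreeL.Merge (MZ)
open Cfsg.Agent.Omega.NOThreeL.RTree (RB)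
open Cfsg.Agent.Omega.NatPair (ap ap_add ap_mul ap_one ext2 ap_zero' ap_one')
open Cfsg.Agent.Lib.SL2Mat
open Cfsg.Agent.Omega.NOThreeL.RRed.InstZ (ZZ Spl)
open Cfsg.Agent.Omega.NOThreeL.RRed.InstL (NatF LD ld_of_natS)
open Cfsg.Agent.Omega.NOThreeL.RRed.WideTree
open Cfsg.Agent.Omega.NOThreeL.RRed.WLeft
open Cfsg.Agent.Omega.NOThreeL.Pair (conj_eq_of_mem)
open Cfsg.Agent.MinSimple.VModule (oddGen oddGen_def)
open scoped Pointwise

universe u

variable {G : Type u} [Group G] [Finite G] {S : Sylow 2 G} {W l : Fin 2 → Subgroup G}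

/-- `A` does not centralise `W`, `g W = W'` : `A^g` does not centralise `W'` -/
theorem not_cent_conj {A W W' : Subgroup G} {g : G} (h : ¬ A ≤ centralizer (W : Set G))
    (hg : MulAut.conj g • W = W') : ¬ MulAut.conj g • A ≤ centralizer (W' : Set G) := by
  intro h1
  apply h
  intro a ha
  have h2 : g * a * g⁻¹ ∈ centralizer (W' : Set G) := h1 ⟨a, ha, rfl⟩
  refine mem_centralizer_iff.2 fun w hw => ?_
  have h3 : g * w * g⁻¹ ∈ W' := by
    rw [← hg]
    exact ⟨w, hw, rfl⟩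
  have h4 := mem_centralizer_iff.1 h2 _ h3
  have h5 : g * (w * a) * g⁻¹ = g * (a * w) * g⁻¹ := by
    calc g * (w * a) * g⁻¹ = (g * w * g⁻¹) * (g * a * g⁻¹) := by group
      _ = (g * a * g⁻¹) * (g * w * g⁻¹) := h4
      _ = g * (a * w) * g⁻¹ := by group
  exact mul_left_cancel (mul_right_cancel h5)

variable (hW : Wide S) (hm : MvAct (S : Subgroup G)) (C : CM (S : Subgroup G) (fun i : ULift.{u} (Fin 2) => W i.down))
  (s : Src (S : Subgroup G) W l)
include hW C s

/-- **one active `P` per class, with coordinates** -/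
theorem exists_nat (hm : MvAct (S : Subgroup G)) (i : Fin 2) :
    ∃ (F : Type) (_ : Field F) (_ : Finite F) (_ : CharP F 2) (P : Subgroup G)
      (N : Nat1 F (S : Subgroup G) P (W i) (l i)) (n : NatS F (S : Subgroup G) P (W i) (W (i + 1)) (l i)),
        Act (S : Subgroup G) P ∧ P ≤ centralizer (ZZ (S : Subgroup G) W (i + 1) : Set G) ∧
          n.e = fun g => N.M.e g 0 := by
  obtain ⟨P, hP, -, ho, hc⟩ := exists_act hW.toRB C hm (OM.KTwo.ne_add_one i)
  have hodd : oddGen P ≤ centralizer (W (i + 1) : Set G) := by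
    rw [oddGen_def, closure_le]
    rintro g ⟨hg, hgo⟩
    exact ho g hg hgo
  obtain ⟨F, iF, iF', iF2, ⟨N⟩⟩ := s.nat1 hP hodd
  obtain ⟨n, hn⟩ := N.natS hP.1.le ((Merge.le_MZ hP.1).trans (cm_inv C i)) hodd
  exact ⟨F, iF, iF', iF2, P, N, n, hP, hc, hn⟩

/-- `C_(W i)(A) = l i` for the minimal exact offenders `A ≤ S` which move `W i` -/
theorem cent_eq (hm : MvAct (S : Subgroup G)) {i : Fin 2} {A : Subgroup G} (hA : A ≤ (S : Subgroup G))
    (hx : Mx (Wd (S : Subgroup G)) A) (hne : ¬ A ≤ centralizer (W i : Set G)) :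
    W i ⊓ centralizer (A : Set G) = l i := by
  obtain ⟨F, iF, iF', iF2, P, N, n, hP, -, hn⟩ := exists_nat hW C s hm i
  exact (rt_of hW N hP.1 n hn hA hx hne).cent (hA.trans (S_nor hW.toRB C i))

omit hW C s in
/-- an inactive `R ∈ P*(S)` permutes the minimal exact offenders in `S` -/
theorem conj_EE {R : Subgroup G} (hR : IsParS (S : Subgroup G) R) (hna : ¬ Act (S : Subgroup G) R) {A : Subgroup G}
    (hA : A ≤ (S : Subgroup G)) (hx : Mx (Wd (S : Subgroup G)) A) {r : G} (hr : r ∈ R) :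
    MulAut.conj r • A ≤ (S : Subgroup G) ∧ Mx (Wd (S : Subgroup G)) (MulAut.conj r • A) := by
  have h1 : A ≤ o2 R := by
    by_contra h2
    exact hna ⟨hR, A, hA, hx, h2⟩
  have h2 : MulAut.conj r • A ≤ o2 R := by
    have h3 : MulAut.conj r • o2 R = o2 R := conj_eq_of_mem (MinSimple.VModule.le_normalizer_o2 _ hr)
    rw [← h3]
    exact NoFF.Basic.conj_le_iff.2 h1
  exact ⟨h2.trans (hR.isLoc.o2_le S), CI.mx_conj hx (le_norm_Wd (Merge.le_MZ hR hr))⟩

/-- **an inactive `R ∈ P*(S)` normalises the lines** -/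
theorem norm_l (hm : MvAct (S : Subgroup G)) {R : Subgroup G} (hR : IsParS (S : Subgroup G) R)
    (hna : ¬ Act (S : Subgroup G) R) (i : Fin 2) : R ≤ normalizer (l i : Set G) := by
  obtain ⟨A, hA, hx, hne⟩ := C.mvd ⟨i⟩
  intro r hr
  have hrW : MulAut.conj r • W i = W i := conj_eq_of_mem (cm_inv C i (Merge.le_MZ hR hr))
  obtain ⟨h1, h2⟩ := conj_EE hR hna hA hx hr
  have h3 := cent_eq hW C s hm h1 h2 (not_cent_conj hne hrW)
  have h4 := cent_eq hW C s hm hA hx hne
  refine mem_nor ?_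
  rw [← h4, Subgroup.smul_inf, hrW, NoFF.ThmJFam.conj_cent, h3, h4]

/-- **`N_G(S)` permutes the lines** -/
theorem norm_l' (hm : MvAct (S : Subgroup G)) {g : G} (hg : g ∈ normalizer ((S : Subgroup G) : Set G)) {i j : Fin 2}
    (hij : MulAut.conj g • W i = W j) : MulAut.conj g • l i = l j := by
  obtain ⟨A, hA, hx, hne⟩ := C.mvd ⟨i⟩
  have h1 : MulAut.conj g • A ≤ (S : Subgroup G) := by
    have h2 : MulAut.conj g • (S : Subgroup G) = S := conj_eq_of_mem hg
    rw [← h2]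
    exact NoFF.Basic.conj_le_iff.2 hA
  have h2 : Mx (Wd (S : Subgroup G)) (MulAut.conj g • A) := CI.mx_conj hx (CI.norm_zl hg (CI.norm_MZ hg))
  rw [← cent_eq hW C s hm hA hx hne, Subgroup.smul_inf, hij, NoFF.ThmJFam.conj_cent,
    cent_eq hW C s hm h1 h2 (not_cent_conj hne hij)]

/-- an active `R` does not normalise both lines -/
theorem not_act {R : Subgroup G} (hl : ∀ k, R ≤ normalizer (l k : Set G)) : ¬ Act (S : Subgroup G) R := by
  intro hR
  obtain ⟨i, -, hodd, -⟩ := exists_cls C hR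
  obtain ⟨F, iF, iF', iF2, ⟨N⟩⟩ := s.nat1 hR hodd
  obtain ⟨n, -⟩ := N.natS hR.1.le ((Merge.le_MZ hR.1).trans (cm_inv C i)) hodd
  obtain ⟨v, hv, hve⟩ := n.exists_l 1
  obtain ⟨g, hg, hact⟩ := n.lift (lo 1)
  have h1 := ((n.lin _).1 ((mem_normalizer_iff.1 (hl i hg) v).1 hv)).2
  rw [hact v (n.lV hv), hve, NO3S.ThmB.ap_lo_1] at h1
  simp at h1

/-- **the field `gal`** -/
theorem gal (hm : MvAct (S : Subgroup G)) {R : Subgroup G} (hR : IsParS (S : Subgroup G) R)
    (hl : ∀ k, R ≤ normalizer (l k : Set G)) (i : Fin 2) {z : G} (hz : z ∈ ZZ (S : Subgroup G) W i) (hz1 : z ≠ 1)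
    (hzR : R ≤ centralizer ({z} : Set G)) : R ≤ centralizer (ZZ (S : Subgroup G) W i : Set G) := by
  have hna := not_act hW C s hl
  obtain ⟨F, iF, iF', iF2, P, N, n, hP, -, hn⟩ := exists_nat hW C s hm i
  obtain ⟨A, hA, hx, hne⟩ := C.mvd ⟨i⟩
  have hRW : R ≤ normalizer (W i : Set G) := (Merge.le_MZ hR).trans (cm_inv C i)
  have hRl : ∀ r ∈ R, ∀ v ∈ l i, r * v * r⁻¹ ∈ l i := fun r hr v hv => (mem_normalizer_iff.1 (hl i hr) v).1 hv
  have hfix : ∀ z ∈ ZZ (S : Subgroup G) W i, z ∈ l i := fun z hz =>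
    n.fixed_le hz.1 (MinSimple.VModule.zc_le_centralizer _ hz.2)
  have key := (rt_of hW N hP.1 n hn hA hx hne).comm (hA.trans (S_nor hW.toRB C i)) hRW hRl (fun r hr => by
    obtain ⟨h1, h2⟩ := conj_EE hR hna hA hx hr
    exact rt_of hW N hP.1 n hn h1 h2 (not_cent_conj hne (conj_eq_of_mem (hRW hr)))) (hfix z hz) hz1 hzR
  refine InstZ.le_of_conj hR.toIsMinPar fun r hr t ht => mem_centralizer_iff.2 fun x hx => ?_
  have htx : t * x * t⁻¹ = x := by
    have := mem_centralizer_iff.1 (MinSimple.VModule.zc_le_centralizer _ hx.2) t ht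
    rw [this, mul_inv_cancel_right]
  have h1 : r⁻¹ * x * r ∈ l i := by
    have := hRl r⁻¹ (inv_mem hr) x (hfix x hx)
    rwa [inv_inv] at this
  have h2 := key r hr t (hR.le ht) _ h1
  have e1 : r * (r⁻¹ * x * r) * r⁻¹ = x := by group
  rw [e1, htx] at h2
  calc x * (r * t * r⁻¹) = (r * (t * (r⁻¹ * x * r) * t⁻¹) * r⁻¹) * (r * t * r⁻¹) := by rw [h2]
    _ = r * t * r⁻¹ * x := by group

/-- **`NatF S W l`** -/
theorem natF (hm : MvAct (S : Subgroup G)) : NatF S W l where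
  nM := cm_inv C
  nS g hg := by
    rcases cm_nS C hg with h | h
    · exact Or.inl fun j => ⟨norm_l' hW C s hm hg (h j), h j⟩
    · exact Or.inr fun j => ⟨norm_l' hW C s hm hg (h j), h j⟩
  ld i := by
    obtain ⟨F, iF, iF', iF2, P, N, n, -, -, -⟩ := exists_nat hW C s hm i
    exact ld_of_natS n (W_le_S hW.toRB C i) fun x hx => Wd_sq hW.toRB x (cm_le C i hx)
  act R hR := by
    by_cases hA : Act (S : Subgroup G) R
    · right
      obtain ⟨i, -, hodd, -⟩ := exists_cls C hA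
      obtain ⟨F, iF, iF', iF2, ⟨N⟩⟩ := s.nat1 hA hodd
      refine ⟨i, fun z hz hz1 hc => hz1 (N.eq_one hz.1 hc), fun g hg hgo => hodd ?_⟩
      rw [oddGen_def]
      exact subset_closure ⟨hg, hgo⟩
    · exact Or.inl (norm_l hW C s hm hR hA)
  gal R hR hl i z hz hz1 hzR := gal hW C s hm hR hl i hz hz1 hzR

end Cfsg.Agent.Omega.NOThreeL.RRed.WLF

end

section


/-!
# NO-3L, box R, row 8 of `WideTree`: `Spl S W` and nonlocality with fields (helper916; text helper640 #24700 (B))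

* `spl_of` : 692's `Spl S W`;
* **`nonLoc_of`** : `⟨C_G(Z_0), C_G(Z_1)⟩` is nonlocal, from `C_G(Z) ≤ N(l i)`;
* **`lfr_of`** : `KL.TwoZ.Line.LFr S W (ZZ S W) l`.
-/

set_option autoImplicit false
set_option linter.unusedSectionVars false

namespace Cfsg.Agent.Omega.NOThreeL.RRed.WLF

open Subgroup Cfsg Cfsg.Agent.ZN Cfsg.Agent.Omega.MinPar Cfsg.Agent.Omega.Frame Cfsg.Agent.Omega.FrameNOFF
open Cfsg.Agent.Omega.FrameFF
open Cfsg.Agent.Omega.NOThreeL.Merge (MZ)
open Cfsg.Agent.Omega.NOThreeL.RTree (RB)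
open Cfsg.Agent.Omega.NOThreeL.RRed.InstZ (ZZ Spl)
open Cfsg.Agent.Omega.NOThreeL.RRed.WideTree
open Cfsg.Agent.Omega.NOThreeL.RRed.WLeft
open Cfsg.Agent.Omega.NOThreeL.Pair (conj_eq_of_mem)
open Cfsg.Agent.MinSimple.VModule (oddGen oddGen_def)
open scoped Pointwise

universe u

variable {G : Type u} [Group G] [Finite G] {S : Sylow 2 G} {W l : Fin 2 → Subgroup G}
  (hW : Wide S) (C : CM (S : Subgroup G) (fun i : ULift.{u} (Fin 2) => W i.down))
  (s : Src (S : Subgroup G) W l)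
include hW C s

/-- **`Spl S W`** -/
theorem spl_of (hm : MvAct (S : Subgroup G)) : Spl S W := by
  refine spl hW.toRB C (fun i => ?_) fun i j hij => ?_
  · obtain ⟨F, iF, iF', iF2, P, N, n, hP, -, -⟩ := exists_nat hW C s hm i
    exact ⟨P, hP.1, N.W_le⟩
  · obtain ⟨F, iF, iF', iF2, P, N, n, hP, hc, -⟩ := exists_nat hW C s hm i
    have hj : j = i + 1 := OM.KTwo.eq_add_one hij
    obtain ⟨z, hz, hz1⟩ := exists_z hW.toRB C i
    intro v hv
    by_cases hv1 : v = 1
    · rw [hv1]; exact one_mem _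
    obtain ⟨h, hh, e⟩ := n.trans hv hv1 hz.1 hz1 (MinSimple.VModule.zc_le_centralizer _ hz.2)
    have hhP : h⁻¹ ∈ centralizer (ZZ (S : Subgroup G) W j : Set G) := by
      rw [hj]
      exact inv_mem (hc (n.oddGen_le hh))
    have h1 : MulAut.conj h⁻¹ • ZZ (S : Subgroup G) W i ≤ NoFF.Basic.V (ZZ (S : Subgroup G) W i)
        (centralizer (ZZ (S : Subgroup G) W j : Set G)) := NoFF.Basic.Z_le_V hhP
    apply h1
    refine ⟨z, hz, ?_⟩
    change h⁻¹ * z * h⁻¹⁻¹ = v
    rw [← e]; group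

/-- **nonlocality** -/
theorem nonLoc_of (hm : MvAct (S : Subgroup G))
    (hcl : ∀ c ∈ centralizer (zc (S : Subgroup G) : Set G), ∀ i, c ∈ normalizer (l i : Set G)) :
    NonLoc (centralizer (ZZ (S : Subgroup G) W 0 : Set G)) (centralizer (ZZ (S : Subgroup G) W 1 : Set G)) := by
  have h := hW.toRB
  have hlW : ∀ i, l i ≤ W i := fun i => by
    obtain ⟨F, iF, iF', iF2, P, N, n, -, -, -⟩ := exists_nat hW C s hm i
    exact n.lV
  have hZl : ∀ i, ZZ (S : Subgroup G) W i ≤ l i := fun i => by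
    obtain ⟨F, iF, iF', iF2, P, N, n, -, -, -⟩ := exists_nat hW C s hm i
    exact fun z hz => n.fixed_le hz.1 (MinSimple.VModule.zc_le_centralizer _ hz.2)
  have hWab : ∀ i j, W i ≤ centralizer (W j : Set G) := fun i j x hx => mem_centralizer_iff.2 fun y hy =>
    (mem_centralizer_iff.1 (Star.zl_comm h.ctx.char2 h.data.noff (cm_le C i hx)) y (cm_le C j hy))
  have hlc : ∀ i j, l i ≤ centralizer (l j : Set G) := fun i j =>
    (hlW i).trans ((hWab i j).trans (centralizer_le (hlW j)))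
  set G₀ : Subgroup G := centralizer (l 0 : Set G) ⊔ centralizer (l 1 : Set G) with hG₀
  have hcG : ∀ i, centralizer (l i : Set G) ≤ G₀ := by
    intro i
    rcases Fin.exists_fin_two.1 ⟨i, rfl⟩ with e | e
    · rw [e]; exact le_sup_left
    · rw [e]; exact le_sup_right
  -- what normalises both lines normalises `G₀`
  have hnG : ∀ g : G, (∀ i, g ∈ normalizer (l i : Set G)) → g ∈ normalizer (G₀ : Set G) := by
    intro g hg
    refine mem_nor ?_
    rw [hG₀, Subgroup.smul_sup, NoFF.ThmJFam.conj_cent, NoFF.ThmJFam.conj_cent, conj_eq_of_mem (hg 0),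
      conj_eq_of_mem (hg 1)]
  have hSl : ∀ i, (S : Subgroup G) ≤ normalizer (l i : Set G) := fun i t ht =>
    hcl t (MinSimple.VModule.le_centralizer_zc _ ht) i
  have hSG : (S : Subgroup G) ≤ normalizer (G₀ : Set G) := fun t ht => hnG t fun i => hSl i ht
  have hCG : centralizer (zc (S : Subgroup G) : Set G) ≤ normalizer (G₀ : Set G) := fun c hc => hnG c (hcl c hc)
  -- `P*(S)` normalises `G₀`
  have hPG : ∀ R, IsParS (S : Subgroup G) R → R ≤ normalizer (G₀ : Set G) := by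
    intro R hR
    by_cases hA : Act (S : Subgroup G) R
    · obtain ⟨i, -, hodd, -⟩ := exists_cls C hA
      conv_lhs => rw [← NoFF.LinesPlug.oddGen_sup hR.le (MinSimple.Basic.not_dvd_relIndex S hR.le)]
      refine sup_le ?_ hSG
      exact (hodd.trans ((centralizer_le (hlW (i + 1))).trans (hcG (i + 1)))).trans le_normalizer
    · exact fun r hr => hnG r fun i => norm_l hW C s hm hR hA i hr
  -- `O₂(G₀) = 1`
  have hE : o2 G₀ = ⊥ := by
    refine Merge.nonLoc_MZ h.ctx h.full _ (MinSimple.VModule.o2_isPGroup _) (sSup_le fun R hR => ?_) ?_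
    · exact (hPG R hR).trans (fun g hg => KL.TwoZ.norm_o2_of hg)
    · exact hCG.trans (fun g hg => KL.TwoZ.norm_o2_of hg)
  intro U hU h0 h1
  have hUS : U ≤ (S : Subgroup G) := le_of_le_normalizer S hU ((InstZ.Spl.S_le_cent W 0).trans h0)
  have hGU : G₀ ≤ normalizer (U : Set G) :=
    sup_le ((centralizer_le (hZl 0)).trans h0) ((centralizer_le (hZl 1)).trans h1)
  -- `[U, G₀] ≤ U ∩ G₀ = 1`
  have hUG : U ⊓ G₀ = ⊥ := by
    rw [eq_bot_iff, ← hE]
    refine MinSimple.VModule.le_o2 inf_le_right (hU.to_le inf_le_left) ?_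
    intro g hg
    rw [mem_normalizer_iff]
    intro x
    rw [mem_inf, mem_inf]
    exact and_congr (mem_normalizer_iff.1 (hGU hg) x) (mem_normalizer_iff.1 (le_normalizer hg) x)
  have hcen : ∀ y ∈ U, ∀ g ∈ G₀, y * g = g * y := by
    intro y hy g hg
    have h2 : y * g * y⁻¹ * g⁻¹ ∈ U ⊓ G₀ := by
      refine mem_inf.2 ⟨?_, ?_⟩
      · have h3 := (mem_normalizer_iff.1 (hGU hg) _).1 (inv_mem hy)
        have e : y * g * y⁻¹ * g⁻¹ = y * (g * y⁻¹ * g⁻¹) := by group
        rw [e]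
        exact mul_mem hy h3
      · exact mul_mem ((mem_normalizer_iff.1 (hSG (hUS hy)) g).1 hg) (inv_mem hg)
    rw [hUG, mem_bot] at h2
    calc y * g = (y * g * y⁻¹ * g⁻¹) * (g * y) := by group
      _ = g * y := by rw [h2, one_mul]
  have hlG : ∀ i, l i ≤ G₀ := fun i => (hlc i 0).trans (hcG 0)
  have hUG' : U ≤ G₀ := fun y hy => hcG 0 (mem_centralizer_iff.2 fun x hx => (hcen y hy x (hlG 0 hx)).symm)
  rwa [inf_eq_left.2 hUG'] at hUG

/-- **853's frame `LFr`** -/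
theorem lfr_of (hm : MvAct (S : Subgroup G))
    (hcl : ∀ c ∈ centralizer (zc (S : Subgroup G) : Set G), ∀ i, c ∈ normalizer (l i : Set G)) :
    KL.TwoZ.Line.LFr S W (ZZ (S : Subgroup G) W) l :=
  (natF hW C s hm).lfr hW.toRB (spl_of hW C s hm) (InstL.zj_of_perm hcl) (nonLoc_of hW C s hm hcl)

end Cfsg.Agent.Omega.NOThreeL.RRed.WLF

end
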