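import Cfsg.Agent.Mrg.Omega.NOThreeL.RRed.WLeftBase
import Cfsg.Agent.Mrg.Omega.NOThreeL.RRed.NatS
import Cfsg.Agent.Mrg.Omega.NOThreeL.RRed.ClassMx
import Cfsg.Agent.Mrg.Omega.NOThreeL.RRed.NS.Blk
import Cfsg.Agent.Mrg.Omega.NOThreeL.RRed.ClassInst

section


/-!
# NO-3L, box R, row 8 of `WideTree` (two natural blocks, fields): one active `P` per block (helper916)

* `Src S W l` : the blocks and lines of every active `P` are among the `(W b, l b)`;
* `Src.nat1` : an active `P` which moves `Z_i` has exactly one block, `W i`, with line `l i`;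
* `Src.natS` : `NatS F S P (W i) (W (i+1)) (l i)`.
-/

set_option autoImplicit false
set_option linter.unusedSectionVars false

namespace Cfsg.Agent.Omega.NOThreeL.RRed.WLF

open Subgroup Cfsg Cfsg.Agent.ZN Cfsg.Agent.Omega.MinPar Cfsg.Agent.Omega.Frame Cfsg.Agent.Omega.FrameNOFF
open Cfsg.Agent.Omega.FrameFF
open Cfsg.Agent.Omega.Node.NO3L Cfsg.Agent.Omega.NOThreeL.Basic
open Cfsg.Agent.Omega.NOThreeL.Merge (MZ)
open Cfsg.Agent.Omega.NOThreeL.RTree (RB)
open Cfsg.Agent.Omega.FFThm (NatKM NatK ActsSL OffM ElemM NoOverM ConclM)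
open Cfsg.Agent.Omega.NO3S.ThmB (Nb sg)
open Cfsg.Agent.Omega.NO3S.KeyRad (blk blk_le e_blk exists_blk_e)
open Cfsg.Agent.Omega.NOThreeL.RRed.NS (DD YY mem_YY)
open Cfsg.Agent.Omega.NOThreeL.RRed.InstZ (ZZ Spl)
open Cfsg.Agent.Omega.NOThreeL.RRed.WideTree
open Cfsg.Agent.Omega.NOThreeL.RRed.WLeft
open Cfsg.Agent.MinSimple.VModule (oddGen oddGen_def)
open scoped Pointwise

universe u

variable {G : Type u} [Group G]

/-- **every active `P` is natural, its blocks and lines are in the list** -/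
structure Src (S : Subgroup G) (W l : Fin 2 → Subgroup G) : Prop where
  act : ∀ P, Act S P → ∃ (F : Type) (_ : Field F) (_ : Finite F) (_ : CharP F 2) (k : ℕ) (_ : 0 < k)
    (M : NatKM F S P (zl S P) (cv S P) k) (h : Nb M), (∀ j, DD M j = ⊥) ∧ ∀ j, ∃ b, W b = blk M j ∧ l b = YY h j

/-- one natural block -/
structure Nat1 (F : Type) [Field F] (S P W l : Subgroup G) where
  M : NatKM F S P (zl S P) (cv S P) 1
  nb : Nb M
  dd : DD M 0 = ⊥
  hW : W = blk M 0
  hl : l = YY nb 0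

section fin

variable [Finite G] {S : Sylow 2 G} {W l : Fin 2 → Subgroup G}

/-- the class of an active `P` -/
theorem exists_cls (C : CM (S : Subgroup G) (fun i : ULift.{u} (Fin 2) => W i.down)) {P : Subgroup G}
    (hP : Act (S : Subgroup G) P) : ∃ i : Fin 2, ¬ P ≤ centralizer (ZZ (S : Subgroup G) W i : Set G) ∧
      oddGen P ≤ centralizer (W (i + 1) : Set G) ∧
        P ≤ centralizer (ZZ (S : Subgroup G) W (i + 1) : Set G) := by
  obtain ⟨k, hk, hk'⟩ := C.one P hP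
  have hodd : oddGen P ≤ centralizer (W (k.down + 1) : Set G) := by
    rw [oddGen_def, closure_le]
    rintro g ⟨hg, ho⟩
    exact hk' ⟨k.down + 1⟩ (fun e => OM.KTwo.ne_add_one k.down (congrArg ULift.down e).symm) g hg ho
  refine ⟨k.down, hk, hodd, ?_⟩
  conv_lhs => rw [← NoFF.LinesPlug.oddGen_sup hP.1.le (MinSimple.Basic.not_dvd_relIndex S hP.1.le)]
  exact sup_le (hodd.trans (centralizer_le inf_le_left)) (InstZ.Spl.S_le_cent W _)

/-- **an active `P` of class `i` has exactly one block, `W i`** -/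
theorem Src.nat1 (s : Src (S : Subgroup G) W l) {P : Subgroup G} (hP : Act (S : Subgroup G) P) {i : Fin 2}
    (hi : oddGen P ≤ centralizer (W (i + 1) : Set G)) :
    ∃ (F : Type) (_ : Field F) (_ : Finite F) (_ : CharP F 2), Nonempty (Nat1 F (S : Subgroup G) P (W i) (l i)) := by
  obtain ⟨F, iF, iF', iF2, k, hk, M, hM, hD, hb⟩ := s.act P hP
  have key : ∀ j : Fin k, W i = blk M j ∧ l i = YY hM j := by
    intro j
    obtain ⟨b, hb1, hb2⟩ := hb j
    have hbi : b = i := by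
      by_contra hne
      have hb' : b = i + 1 := OM.KTwo.eq_add_one (Ne.symm hne)
      obtain ⟨w, hw, hwe⟩ := exists_blk_e hM j ![1, 0]
      have hwW : w ∈ W (i + 1) := by rw [← hb', hb1]; exact hw
      have h1 : w ∈ cv (S : Subgroup G) P := ⟨blk_le hM j hw, centralizer_le hi (le_centralizer_iff.1 le_rfl hwW)⟩
      have h2 : w ∈ DD M j := ⟨hw, h1⟩
      rw [hD j, mem_bot] at h2
      rw [h2, Nb.e_one (M := M)] at hwe
      exact one_ne_zero (congrFun hwe 0).symm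
    rw [← hbi]
    exact ⟨hb1, hb2⟩
  have hk1 : k = 1 := by
    by_contra hne
    have h2 : 1 < k := by omega
    have h01 : (⟨1, h2⟩ : Fin k) ≠ ⟨0, hk⟩ := by
      intro h
      exact absurd (congrArg Fin.val h) (by norm_num)
    obtain ⟨w, hw, hwe⟩ := exists_blk_e hM ⟨0, hk⟩ ![1, 0]
    have hw' : w ∈ blk M ⟨1, h2⟩ := by rw [← (key ⟨1, h2⟩).1, (key ⟨0, hk⟩).1]; exact hw
    have h3 := e_blk hM h01.symm hw'
    rw [h3] at hwe
    exact one_ne_zero (congrFun hwe 0).symm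
  subst hk1
  exact ⟨F, iF, iF', iF2, ⟨{ M := M, nb := hM, dd := hD 0, hW := (key 0).1, hl := (key 0).2 }⟩⟩

end fin

namespace Nat1

variable {F : Type} [Field F] [CharP F 2] {S P W l : Subgroup G} (N : Nat1 F S P W l)
include N

theorem W_le : W ≤ zl S P := by
  rw [N.hW]
  exact blk_le N.nb 0

theorem mem_l {v : G} : v ∈ l ↔ v ∈ W ∧ N.M.e v 0 1 = 0 := by
  obtain ⟨M, nb, dd, hW, hl⟩ := N
  subst hW hl
  rfl

theorem inf_cv : W ⊓ cv S P = ⊥ := by
  have h := N.dd
  rw [DD, ← N.hW] at h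
  exact h

theorem le_sup : zl S P ≤ W ⊔ cv S P := by
  intro u hu
  obtain ⟨w, hw, hwe⟩ := exists_blk_e N.nb 0 (N.M.e u 0)
  have hwV := blk_le N.nb 0 hw
  have h1 : u * w⁻¹ ∈ cv S P := by
    rw [N.nb.mem_D hu hwV]
    funext i
    rw [Subsingleton.elim i 0, hwe]
  have e : u = w * (u * w⁻¹) := by
    rw [N.nb.cm hwV (mul_mem hu (inv_mem hwV)), inv_mul_cancel_right]
  rw [e]
  exact mul_mem_sup (by rw [N.hW]; exact hw) h1

/-- a `P`-fixed vector of `W` is trivial -/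
theorem eq_one {z : G} (hz : z ∈ W) (hc : P ≤ centralizer ({z} : Set G)) : z = 1 := by
  have h1 : z ∈ W ⊓ cv S P := by
    refine ⟨hz, N.W_le hz, mem_centralizer_iff.2 fun g hg => ?_⟩
    have h2 : g ∈ P := by
      have h3 : oddGen P ≤ P := by
        rw [oddGen_def, closure_le]
        rintro x ⟨hx, -⟩
        exact hx
      exact h3 hg
    exact mem_centralizer_singleton_iff.1 (hc h2)
  rwa [N.inf_cv, mem_bot] at h1

end Nat1

/-- **`NatS` of the block `W i`** -/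
theorem Nat1.natS [Finite G] {F : Type} [Field F] [CharP F 2] {S : Sylow 2 G} {P W W' l : Subgroup G}
    (N : Nat1 F (S : Subgroup G) P W l) (hSP : (S : Subgroup G) ≤ P) (hn : P ≤ normalizer (W : Set G))
    (ho : oddGen P ≤ centralizer (W' : Set G)) :
    ∃ n : NatS F (S : Subgroup G) P W W' l, n.e = fun g => N.M.e g 0 := by
  have hDV : cv (S : Subgroup G) P ≤ normalizer (W : Set G) := by
    refine le_trans (fun d hd => ?_) (centralizer_le_normalizer _)
    exact mem_centralizer_iff.2 fun w hw => N.nb.cm (N.W_le hw) (N.nb.DV hd)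
  have e : ∀ v, v ∈ l ↔ v ∈ NatS.ln N.M.toNatK W N.W_le := fun v => N.mem_l
  have e' : l = NatS.ln N.M.toNatK W N.W_le := Subgroup.ext e
  let n := NatS.ofNatK (W := W') hSP S.isPGroup' (MinSimple.Basic.not_dvd_relIndex S hSP) N.M.toNatK N.W_le N.nb.DV
    N.le_sup N.inf_cv hDV N.nb.DP' hn (fun g hg hgo => ho (by rw [oddGen_def]; exact subset_closure ⟨hg, hgo⟩))
  refine ⟨{ SP := n.SP, two := n.two, syl := n.syl, nV := n.nV, odd := n.odd, e := n.e, mul := n.mul, surj := n.surj,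
            ker := n.ker, lift := n.lift, norm := n.norm, unip := n.unip, lin := fun v => ?_, Sl := ?_ }, rfl⟩
  · exact (e v).trans (n.lin v)
  · have h1 := n.Sl
    rwa [← e'] at h1

end Cfsg.Agent.Omega.NOThreeL.RRed.WLF

end

section


/-!
# NO-3L, box R, row 8 of `WideTree`: the root group of one block, semilinear maps (helper916)

`n : NatS F S P V W l` (`V = F²`, `l = F × 0`).

* `Rt n A` : `A` acts on `V` as the full root group; `Rt.cent` : `C_V(A) = l`;
* `Rt.mul` : an element which normalises `V` and maps one full root group to another one acts semilinearly on `l`;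
* **`Rt.gal`** : a group of such elements which fixes a vector of `l#` acts on `l` as a commutative group;
* `rt_of` : a minimal exact offender of `V*` in `S` which moves `W i` acts on it as the full root group.
-/

set_option autoImplicit false
set_option linter.unusedSectionVars false

namespace Cfsg.Agent.Omega.NOThreeL.RRed.WLF

open Subgroup Cfsg Cfsg.Agent.ZN Cfsg.Agent.Omega.MinPar Cfsg.Agent.Omega.Frame Cfsg.Agent.Omega.FrameNOFF
open Cfsg.Agent.Omega.FrameFF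
open Cfsg.Agent.Omega.NOThreeL.Merge (MZ)
open Cfsg.Agent.Omega.NOThreeL.RTree (RB)
open Cfsg.Agent.Omega.FFThm (NatKM NatK ActsSL OffM ElemM NoOverM ConclM)
open Cfsg.Agent.Omega.NO3S.ThmB (Nb sg)
open Cfsg.Agent.Omega.NatPair (ap ap_add ap_mul ap_one ext2 ap_zero' ap_one')
open Cfsg.Agent.Lib.SL2Mat
open Cfsg.Agent.Omega.NOThreeL.RRed.InstZ (ZZ Spl)
open Cfsg.Agent.Omega.NOThreeL.RRed.WideTree
open Cfsg.Agent.Omega.NOThreeL.RRed.WLeft
open Cfsg.Agent.MinSimple.VModule (oddGen oddGen_def)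
open scoped Pointwise

universe u

/-- multiplicative maps of a finite field commute -/
theorem comm_of_mul {F : Type} [Field F] [Finite F] {f g : F → F} (hf : ∀ x y, f (x * y) = f x * f y)
    (hf0 : f 0 = 0) (hf1 : ∀ x, x ≠ 0 → f x ≠ 0) (hg : ∀ x y, g (x * y) = g x * g y) (hg0 : g 0 = 0)
    (hg1 : ∀ x, x ≠ 0 → g x ≠ 0) (x : F) : f (g x) = g (f x) := by
  by_cases hx : x = 0
  · rw [hx, hg0, hf0, hg0]
  have e1 : ∀ {h : F → F}, (∀ x y, h (x * y) = h x * h y) → (∀ x, x ≠ 0 → h x ≠ 0) → h 1 = 1 := by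
    intro h hh h1
    have h2 := hh 1 1
    rw [mul_one] at h2
    exact (mul_eq_left₀ (h1 1 one_ne_zero)).1 h2.symm
  have hpow : ∀ {h : F → F}, (∀ x y, h (x * y) = h x * h y) → (∀ x, x ≠ 0 → h x ≠ 0) →
      ∀ (y : F) (m : ℕ), h (y ^ m) = h y ^ m := by
    intro h hh h1 y m
    induction m with
    | zero => rw [pow_zero, pow_zero, e1 hh h1]
    | succ m ih => rw [pow_succ, hh, ih, pow_succ]
  obtain ⟨ω, hω⟩ := IsCyclic.exists_generator (α := Fˣ)
  have key : ∀ y : F, y ≠ 0 → ∃ m : ℕ, y = (ω : F) ^ m := by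
    intro y hy
    obtain ⟨m, hm⟩ := (mem_powers_iff_mem_zpowers (x := ω) (y := Units.mk0 y hy)).2 (hω (Units.mk0 y hy))
    refine ⟨m, ?_⟩
    have := congrArg Units.val hm
    simpa using this.symm
  have hω0 : (ω : F) ≠ 0 := ω.ne_zero
  obtain ⟨k, rfl⟩ := key x hx
  obtain ⟨m, hm⟩ := key (f ω) (hf1 _ hω0)
  obtain ⟨p, hp⟩ := key (g ω) (hg1 _ hω0)
  rw [hpow hg hg1, hpow hf hf1, hpow hf hf1, hpow hg hg1, hm, hp, hpow hf hf1, hpow hg hg1, hm, hp]
  rw [← pow_mul, ← pow_mul, ← pow_mul, ← pow_mul]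
  congr 1
  ring

variable {G : Type u} [Group G]

section rt

variable {F : Type} [Field F] [CharP F 2] {S P V W l : Subgroup G}

/-- `A` acts on `V` as the full root group -/
structure Rt (n : NatS F S P V W l) (A : Subgroup G) : Prop where
  root : ∀ a ∈ A, ∃ b : F, ∀ v ∈ V, n.e (a * v * a⁻¹) = ap (up b) (n.e v)
  full : ∀ b : F, ∃ a ∈ A, ∀ v ∈ V, n.e (a * v * a⁻¹) = ap (up b) (n.e v)

variable {n : NatS F S P V W l} {A A' : Subgroup G}

theorem ap_up (b : F) (x : Fin 2 → F) : ap (up b) x = ![x 0 + b * x 1, x 1] := by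
  apply ext2
  · rw [NO3S.ThmB.ap_up_0]; rfl
  · rw [NO3S.ThmB.ap_up_1]; rfl

theorem Rt.cent (hA : Rt n A) (hn : A ≤ normalizer (V : Set G)) : V ⊓ centralizer (A : Set G) = l := by
  ext v
  rw [n.lin]
  constructor
  · rintro ⟨hv, hc⟩
    refine ⟨hv, ?_⟩
    obtain ⟨a, ha, hact⟩ := hA.full 1
    have h1 : a * v * a⁻¹ = v := by
      rw [mem_centralizer_iff.1 hc a ha, mul_inv_cancel_right]
    have h2 := congrFun (hact v hv) 0
    rw [h1, ap_up] at h2
    change n.e v 0 = n.e v 0 + 1 * n.e v 1 at h2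
    rw [one_mul] at h2
    exact left_eq_add.1 h2
  · rintro ⟨hv, h0⟩
    refine ⟨hv, mem_centralizer_iff.2 fun a ha => ?_⟩
    obtain ⟨b, hact⟩ := hA.root a ha
    have h1 : a * v * a⁻¹ = v := by
      refine n.e_inj ((mem_normalizer_iff.1 (hn ha) v).1 hv) hv ?_
      rw [hact v hv, ap_up, h0, mul_zero, add_zero]
      exact ext2 rfl h0.symm
    calc a * v = (a * v * a⁻¹) * a := by group
      _ = v * a := by rw [h1]

/-- the coordinate map of `r` on `l` -/
noncomputable def al (n : NatS F S P V W l) (r : G) (t : F) : F := n.e (r * (n.surj ![t, 0]).choose * r⁻¹) 0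

theorem al_eq (r : G) {v : G} (hv : v ∈ l) : al n r (n.e v 0) = n.e (r * v * r⁻¹) 0 := by
  have h := (n.surj ![n.e v 0, 0]).choose_spec
  have e : (n.surj ![n.e v 0, 0]).choose = v := n.e_inj h.1 (n.lV hv) (by rw [h.2, ← n.e_l hv])
  rw [al, e]

/-- **semilinearity** -/
theorem Rt.mul (hA : Rt n A) (hA' : Rt n A') {r : G} (hrV : r ∈ normalizer (V : Set G))
    (hr : ∀ a ∈ A, r * a * r⁻¹ ∈ A') (hAn : A ≤ normalizer (V : Set G)) (hl : ∀ v ∈ l, r * v * r⁻¹ ∈ l) (s t : F) :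
    al n r (s * t) * al n r 1 = al n r s * al n r t := by
  -- `β x`
  choose sec hsV hse using n.surj
  have hconj : ∀ {v : G}, v ∈ V → r * v * r⁻¹ ∈ V := fun hv => (mem_normalizer_iff.1 hrV _).1 hv
  have hmul : ∀ v ∈ V, ∀ w ∈ V, n.e (r * (v * w) * r⁻¹) = n.e (r * v * r⁻¹) + n.e (r * w * r⁻¹) := by
    intro v hv w hw
    rw [show r * (v * w) * r⁻¹ = (r * v * r⁻¹) * (r * w * r⁻¹) by group, n.mul _ (hconj hv) _ (hconj hw)]
  set β : F → F := fun x => n.e (r * sec ![0, x] * r⁻¹) 1 with hβ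
  -- `α (c x) = c' β x`
  have key : ∀ c : F, ∃ c' : F, ∀ x : F, al n r (c * x) = c' * β x := by
    intro c
    obtain ⟨a, ha, hact⟩ := hA.full c
    obtain ⟨c', hc'⟩ := hA'.root _ (hr a ha)
    refine ⟨c', fun x => ?_⟩
    set w := sec ![0, x] with hw
    have hwV : w ∈ V := hsV _
    have hwe : n.e w = ![0, x] := hse _
    have haw : a * w * a⁻¹ ∈ V := (mem_normalizer_iff.1 (hAn ha) _).1 hwV
    -- `u = [a, w] ∈ l`
    set u := a * w * a⁻¹ * w⁻¹ with hu
    have huV : u ∈ V := mul_mem haw (inv_mem hwV)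
    have hue : n.e u = ![c * x, 0] := by
      rw [hu, n.mul _ haw _ (inv_mem hwV), n.e_inv hwV, hact w hwV, ap_up, hwe]
      apply ext2 <;> simp
    have hul : u ∈ l := (n.lin u).2 ⟨huV, by rw [hue]; rfl⟩
    have h1 : al n r (c * x) = n.e (r * u * r⁻¹) 0 := by
      rw [← al_eq r hul, hue]
      rfl
    rw [h1]
    have e1 : r * u * r⁻¹ = (r * a * r⁻¹) * (r * w * r⁻¹) * (r * a * r⁻¹)⁻¹ * (r * w * r⁻¹)⁻¹ := by
      rw [hu]; group
    have h2 : (r * a * r⁻¹) * (r * w * r⁻¹) * (r * a * r⁻¹)⁻¹ ∈ V := by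
      have e2 : (r * a * r⁻¹) * (r * w * r⁻¹) * (r * a * r⁻¹)⁻¹ = r * (a * w * a⁻¹) * r⁻¹ := by group
      rw [e2]
      exact hconj haw
    rw [e1, n.mul _ h2 _ (inv_mem (hconj hwV)), n.e_inv (hconj hwV), hc' _ (hconj hwV), ap_up]
    change n.e (r * w * r⁻¹) 0 + c' * n.e (r * w * r⁻¹) 1 + - n.e (r * w * r⁻¹) 0 = c' * β x
    ring
  have hβ1 : β 1 ≠ 0 := by
    intro h0
    have h1 : r * sec ![0, 1] * r⁻¹ ∈ l := (n.lin _).2 ⟨hconj (hsV _), h0⟩
    -- `r` maps `l` onto `l`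
    obtain ⟨c', hc'⟩ := key 1
    have h2 := hc' 1
    rw [h0, mul_zero, mul_one] at h2
    have h3 := (n.exists_l (1 : F)).choose_spec
    have h4 := al_eq (n := n) r h3.1
    rw [h3.2] at h4
    change al n r 1 = _ at h4
    rw [h2] at h4
    have h5 : n.e (r * (n.exists_l (1 : F)).choose * r⁻¹) = 0 := by
      rw [n.e_l (hl _ h3.1), ← h4]
      exact ext2 rfl rfl
    have h6 := (n.ker _ (hconj (n.lV h3.1))).1 h5
    have h7 : (n.exists_l (1 : F)).choose = 1 := conj_eq_one_iff.1 h6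
    have h8 := h3.2
    rw [h7, n.e_one] at h8
    exact one_ne_zero (congrFun h8 0).symm
  obtain ⟨c1, hc1⟩ := key 1
  obtain ⟨cs, hcs⟩ := key s
  have a1 := hcs t
  have a2 := hcs 1
  have a3 := hc1 t
  have a4 := hc1 1
  rw [mul_one] at a2
  rw [one_mul] at a3 a4
  rw [a1, a2, a3, a4]
  ring

theorem al_ne {r : G} (hrV : r ∈ normalizer (V : Set G)) (hl : ∀ v ∈ l, r * v * r⁻¹ ∈ l) {x : F} (hx : x ≠ 0) :
    al n r x ≠ 0 := by
  intro h0
  obtain ⟨v, hv, hve⟩ := n.exists_l x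
  have h1 := al_eq (n := n) r hv
  rw [hve] at h1
  change al n r x = _ at h1
  rw [h0] at h1
  have h2 : n.e (r * v * r⁻¹) = 0 := by
    rw [n.e_l (hl _ hv), ← h1]
    exact ext2 rfl rfl
  have h3 := (n.ker _ ((mem_normalizer_iff.1 hrV _).1 (n.lV hv))).1 h2
  have h4 : v = 1 := conj_eq_one_iff.1 h3
  rw [h4, n.e_one] at hve
  exact hx (congrFun hve 0).symm

theorem al_zero (r : G) : al n r 0 = 0 := by
  have h1 := al_eq (n := n) r (one_mem l)
  have h2 : n.e 1 0 = 0 := congrFun n.e_one 0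
  rw [h2] at h1
  rw [h1, mul_one, mul_inv_cancel, h2]

/-- **a group of semilinear maps of `l` which fixes a vector of `l#` is commutative on `l`** -/
theorem Rt.comm [Finite F] (hA : Rt n A) (hAn : A ≤ normalizer (V : Set G)) {R : Subgroup G}
    (hRV : R ≤ normalizer (V : Set G)) (hRl : ∀ r ∈ R, ∀ v ∈ l, r * v * r⁻¹ ∈ l)
    (hRA : ∀ r ∈ R, Rt n (MulAut.conj r • A)) {z : G} (hz : z ∈ l) (hz1 : z ≠ 1)
    (hzR : R ≤ centralizer ({z} : Set G)) :
    ∀ r ∈ R, ∀ t ∈ R, ∀ v ∈ l, r * (t * v * t⁻¹) * r⁻¹ = t * (r * v * r⁻¹) * t⁻¹ := by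
  set z0 : F := n.e z 0 with hz0
  have hz0' : z0 ≠ 0 := by
    intro h0
    apply hz1
    refine (n.ker z (n.lV hz)).1 ?_
    rw [n.e_l hz, ← hz0, h0]
    exact ext2 rfl rfl
  have hne : ∀ r ∈ R, al n r 1 ≠ 0 := fun r hr => al_ne (hRV hr) (hRl r hr) one_ne_zero
  have hm : ∀ r ∈ R, ∀ x y, al n r (x * y) * al n r 1 = al n r x * al n r y := fun r hr x y =>
    hA.mul (hRA r hr) (hRV hr) (fun a ha => ⟨a, ha, rfl⟩) hAn (hRl r hr) x y
  have hfz : ∀ r ∈ R, al n r z0 = z0 := by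
    intro r hr
    rw [hz0, al_eq r hz]
    have h1 := mem_centralizer_singleton_iff.1 (hzR hr)
    rw [h1, mul_inv_cancel_right]
  let σ : G → F → F := fun r x => al n r x / al n r 1
  have hσm : ∀ r ∈ R, ∀ x y, σ r (x * y) = σ r x * σ r y := by
    intro r hr x y
    have h1 := hm r hr x y
    have h2 := hne r hr
    change al n r (x * y) / al n r 1 = al n r x / al n r 1 * (al n r y / al n r 1)
    rw [div_mul_div_comm, ← h1]
    field_simp
  have hσ0 : ∀ r ∈ R, σ r 0 = 0 := by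
    intro r _
    change al n r 0 / al n r 1 = 0
    rw [al_zero, zero_div]
  have hσ1 : ∀ r ∈ R, ∀ x, x ≠ 0 → σ r x ≠ 0 := fun r hr x hx =>
    div_ne_zero (al_ne (hRV hr) (hRl r hr) hx) (hne r hr)
  have hal : ∀ r ∈ R, ∀ x, al n r (z0 * x) = z0 * σ r x := by
    intro r hr x
    have h1 := hm r hr z0 x
    rw [hfz r hr] at h1
    have h2 := hne r hr
    change al n r (z0 * x) = z0 * (al n r x / al n r 1)
    rw [← mul_div_assoc, ← h1, mul_div_cancel_right₀ _ h2]
  intro r hr t ht v hv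
  have htv := hRl t ht v hv
  have hrv := hRl r hr v hv
  set y : F := n.e v 0 / z0 with hy
  have hvy : n.e v 0 = z0 * y := by rw [hy]; field_simp
  have e1 : n.e (r * (t * v * t⁻¹) * r⁻¹) 0 = z0 * σ r (σ t y) := by
    rw [← al_eq r htv, ← al_eq t hv, hvy, hal t ht, hal r hr]
  have e2 : n.e (t * (r * v * r⁻¹) * t⁻¹) 0 = z0 * σ t (σ r y) := by
    rw [← al_eq t hrv, ← al_eq r hv, hvy, hal r hr, hal t ht]
  have h1 := hRl r hr _ htv
  have h2 := hRl t ht _ hrv
  refine n.e_inj (n.lV h1) (n.lV h2) ?_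
  rw [n.e_l h1, n.e_l h2, e1, e2,
    comm_of_mul (hσm r hr) (hσ0 r hr) (hσ1 r hr) (hσm t ht) (hσ0 t ht) (hσ1 t ht)]

end rt

section wide

variable [Finite G] {S : Sylow 2 G} {F : Type} [Field F] [CharP F 2] {P A W W' l : Subgroup G}

/-- **a minimal exact offender of `V*` in `S` which moves `W` acts on it as the full root group** -/
theorem rt_of (hW : Wide S) (N : Nat1 F (S : Subgroup G) P W l) (hP : IsParS (S : Subgroup G) P)
    (n : NatS F (S : Subgroup G) P W W' l) (hn : n.e = fun g => N.M.e g 0) (hA : A ≤ (S : Subgroup G))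
    (hm : Mx (Wd (S : Subgroup G)) A) (hne : ¬ A ≤ centralizer (W : Set G)) : Rt n A := by
  obtain ⟨P₁, A₁, hg⟩ := FourTree.exists_gOne_rr hW.toRB hW.rr
  have hne' : ¬ A ≤ centralizer (zl (S : Subgroup G) P : Set G) := fun h => hne (h.trans (centralizer_le N.W_le))
  obtain ⟨-, -, hoff, -, -⟩ := exact_split hW.toRB.ctx.char2 hP (Merge.le_MZ hP) hg.no hg.comm hA hm.toElemM
    hm.exact hne'
  obtain ⟨I, hI, hI'⟩ := N.M.offM A hA hoff
  have hall : ∀ b : Fin 1 → F, (fun i => up (b i)) = fun _ => up (b 0) := by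
    intro b
    funext i
    rw [Subsingleton.elim i 0]
  by_cases h0 : (0 : Fin 1) ∈ I
  · refine ⟨fun a ha => ?_, fun b => ?_⟩
    · obtain ⟨b, -, hact⟩ := hI a ha
      refine ⟨b 0, fun v hv => ?_⟩
      rw [hn]
      exact hact.1 v (N.W_le hv) 0
    · obtain ⟨a, ha, hact⟩ := hI' (fun _ => b) fun i hi => absurd (by rw [Subsingleton.elim i 0]; exact h0) hi
      refine ⟨a, ha, fun v hv => ?_⟩
      rw [hn]
      exact hact.1 v (N.W_le hv) 0
  · exfalso
    apply hne'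
    intro a ha
    obtain ⟨b, hb, hact⟩ := hI a ha
    have hb0 : b = 0 := by
      funext i
      rw [Subsingleton.elim i 0]
      exact hb 0 h0
    have h1 : ActsSL N.M.e (zl (S : Subgroup G) P) (cv (S : Subgroup G) P) a 1 := by
      have h2 : (fun i => up (b i)) = (1 : Fin 1 → Matrix.SpecialLinearGroup (Fin 2) F) := by
        funext i
        rw [hb0]
        exact up_zero
      rwa [h2] at hact
    exact mem_centralizer_iff.2 fun v hv => (N.nb.comm_of_one (hP.le (hA ha)) h1 hv).symm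

end wide

end Cfsg.Agent.Omega.NOThreeL.RRed.WLF

end
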